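import Cfsg.Agent.H973.KerSU.Words
import Cfsg.Agent.H876.UBasic
import Cfsg.Agent.H321.Ker.Cent
import Cfsg.Agent.H918.UBase
import Cfsg.Agent.ClassicalGeometry.HermParabolic

/-!
# The centralisers of the Heisenberg group generate `SU₃(5)`

`su35`: the elements of `SU₃(5)` which centralise a non-scalar element of the Heisenberg group `Hs 3 ζ β` generate
`SU₃(5)` (`su35g`: the same for centralisers modulo scalars): an explicit word is a transvection with centre `(1, a, 0)`, and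
by the diagonal matrices, the shift (which normalises) and hyperbolic lines all isotropic vectors are centres.
-/

set_option autoImplicit false
set_option linter.unusedSectionVars false

namespace Cfsg.Agent.H973.KerSU

open Cfsg Cfsg.Geo Cfsg.Agent.H321.Ker Cfsg.Agent.H876
open Cfsg.Agent.LieClassical.HermBasic (conj conj_apply)
open scoped Matrix MatrixGroups

variable {F : Type*} [Field F]

variable [Fintype F] [CharP F 5]

/-- elements of `M` from the model. -/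
theorem key (hF : Fintype.card F = 5 ^ 2) {ζ β : Fˣ} (h : (ζ : F) * ζ + ζ + 1 = 0) {φ : K →+* F}
    (hφ : ∀ x : K, φ x = (x.re.cast : F) + (x.im.cast : F) * ζ) {A f : Matrix (Fin 3) (Fin 3) K} (hA : Uni A)
    (hc : A * f = f * A) {g₀ : GL (Fin 3) F} (hg₀ : (g₀ : Matrix (Fin 3) (Fin 3) F) = f.map φ)
    (hH : g₀ ∈ Hs 3 ζ β) (hs : g₀ ∉ scalars (Fin 3) F) :
    ∃ g ∈ Mc (Cfsg.GU 3 F 5 ⊓ Cfsg.Geo.specialLinear (Fin 3) F) (Hs 3 ζ β), (g : Matrix (Fin 3) (Fin 3) F) = A.map φ := by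
  have hdet : (A.map φ).det = 1 := by
    rw [← RingHom.mapMatrix_apply, ← RingHom.map_det, hA.det, map_one]
  let g : GL (Fin 3) F := Matrix.GeneralLinearGroup.mk'' (A.map φ) (by rw [hdet]; exact isUnit_one)
  have hg : (g : Matrix (Fin 3) (Fin 3) F) = A.map φ := rfl
  refine ⟨g, mem_Mc (f := g₀) (Subgroup.mem_inf.2 ⟨?_, ?_⟩) hH hs ?_, hg⟩
  · rw [Cfsg.Agent.ClassicalGeometry.HermParabolic.mem_GU_iff_matrix hF, hg]
    have h1 : (A.map φ).map (conj hF) = (A.map star).map φ := by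
      ext i j
      simp only [Matrix.map_apply]
      rw [conj_apply, ← phi_star h hφ]
    rw [h1, ← Matrix.transpose_map, ← Matrix.map_mul, hA.1, Matrix.map_one φ (map_zero φ) (map_one φ)]
  · rw [Cfsg.Agent.H918.mem_specialLinear, hg, hdet]
  · apply Units.ext
    rw [Units.val_mul, Units.val_mul, hg, hg₀, ← Matrix.map_mul, ← Matrix.map_mul, hc]

/-- `InS` is invariant under the normaliser. -/
theorem inS_conj {M : Subgroup (GL (Fin 3) F)} {x : GL (Fin 3) F} (hx : x ∈ GU 3 F 5) (hM : ∀ t ∈ M, x * t * x⁻¹ ∈ M)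
    {v : Fin 3 → F} (h : InS 5 M v) : InS 5 M ((x : Matrix (Fin 3) (Fin 3) F) *ᵥ v) := by
  refine ⟨by rw [herm_gl hx, h.1], fun c hc t ht => ?_⟩
  have h1 : x⁻¹ * t * x ∈ M := by
    refine h.2 c hc _ fun y => ?_
    rw [mul_mulVec, mul_mulVec, ht, Matrix.mulVec_add, inv_mulVec_cancel, Matrix.mulVec_smul,
      inv_mulVec_cancel, herm_gl hx]
  have h2 := hM _ h1
  have h3 : x * (x⁻¹ * t * x) * x⁻¹ = t := by group
  rwa [h3] at h2

section Rot

variable (hF : Fintype.card F = 5 ^ 2) {M : Subgroup (GL (Fin 3) F)} {β : F} (hβ : β * β ^ 5 = 1)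
  (hr : ∀ x y z : F, InS 5 M ![x, y, z] → InS 5 M ![β * z, x, y])

variable (hb : ∀ a : F, a * a ^ 5 = -1 → InS 5 M ![1, a, 0])

include hF hβ hr hb

/-- the hyperbolic line of `(1, a, 0)` and `(0, 1, b)`. -/
theorem line {x y z a : F} (hz : z ≠ 0) (ha : a * a ^ 5 = -1) (h : (y - a * x) * (y - a * x) ^ 5 = -(z * z ^ 5))
    (h0 : x * x ^ 5 + y * y ^ 5 + z * z ^ 5 = 0) : InS 5 M ![x, y, z] := by
  have h1 := hb a ha
  have hzz : z * z ^ 5 ≠ 0 := mul_ne_zero hz (pow_ne_zero _ hz)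
  have hw : y - a * x ≠ 0 := by
    intro hw
    rw [hw, zero_mul] at h
    exact hzz (by linear_combination h)
  have h2 : InS 5 M ![0, 1, z / (y - a * x)] := by
    have h2 := hr 1 (z / (y - a * x)) 0 (hb _ (by rw [div_pow, div_mul_div_comm, h, div_neg, div_self hzz]))
    rwa [mul_zero] at h2
  have h4 : x • ![1, a, 0] + (y - a * x) • ![0, 1, z / (y - a * x)] = ![x, y, z] := by
    ext i
    fin_cases i
    · simp
    · simp; ring
    · simp; field_simp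
  rw [← h4]
  refine InS.line hF h1 h2 ?_ x (y - a * x) ?_
  · rw [Cfsg.Agent.LieClassical.HermBasic.herm_def, Fin.sum_univ_three]
    simp
    rintro rfl
    simp at ha
  · rw [h4, Cfsg.Agent.LieClassical.HermBasic.herm_def, Fin.sum_univ_three]
    simpa using h0

/-- all isotropic vectors `(1, y, z)`. -/
theorem line1 {ζ : F} (h : ζ * ζ + ζ + 1 = 0) {φ : K →+* F}
    (hφ : ∀ x : K, φ x = (x.re.cast : F) + (x.im.cast : F) * ζ) {y z : F} (h0 : 1 + y * y ^ 5 + z * z ^ 5 = 0) :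
    InS 5 M ![1, y, z] := by
  by_cases hz : z = 0
  · subst hz
    apply hb
    linear_combination h0
  by_cases hy : y = 0
  · subst hy
    have h1 : InS 5 M ![1 / z, 0, 1] := by
      have hzz : z * z ^ 5 = -1 := by linear_combination h0
      have h2 := hr _ _ _ (hr 1 (1 / (β * z)) 0 (hb _ (by
        rw [div_pow, div_mul_div_comm, mul_pow, mul_mul_mul_comm, hzz, hβ, one_pow, one_mul, one_mul, div_neg, div_one])))
      have hβ0 : β ≠ 0 := by rintro rfl; simp at hβ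
      have h3 : β * (1 / (β * z)) = 1 / z := by field_simp
      rwa [mul_zero, h3] at h2
    have h2 := InS.smul hF h1 z
    have h3 : z • ![1 / z, 0, 1] = ![1, 0, z] := by
      ext i
      fin_cases i
      · simp [hz]
      · simp
      · simp
    rwa [h3] at h2
  have hβ0 : β ≠ 0 := by rintro rfl; simp at hβ
  have hβi : β⁻¹ * β⁻¹ ^ 5 = 1 := by rw [inv_pow, ← mul_inv, hβ, inv_one]
  have hnm : ∀ x : K, φ x * (φ x) ^ 5 = (ZMod.castHom (dvd_refl 5) F) (nm x) := by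
    intro x
    rw [← phi_star h hφ, ← map_mul, mul_star, hφ]
    simp
  obtain ⟨y, rfl⟩ := phi_surjective hF φ y
  obtain ⟨z, rfl⟩ := phi_surjective hF φ z
  have h1 : 1 + nm y + nm z = 0 := by
    have : Fact (Nat.Prime 5) := ⟨by norm_num⟩
    apply (ZMod.castHom (dvd_refl 5) F).injective
    rw [map_zero, map_add, map_add, map_one, ← hnm, ← hnm, h0]
  have hy' : y ≠ 0 := fun e => hy (by rw [e, map_zero])
  have hz' : z ≠ 0 := fun e => hz (by rw [e, map_zero])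
  rcases exists_line y z hy' hz' h1 with ⟨p, q, h2, h3⟩ | ⟨p, q, h2, h3⟩ | ⟨p, q, h2, h3⟩
  · refine line hF hβ hr hb (a := φ ⟨p, q⟩) hz ?_ ?_ (by rw [one_pow, one_mul]; exact h0)
    · rw [hnm, h2, map_neg, map_one]
    · rw [mul_one, ← map_sub, hnm, h3, map_neg, hnm]
  · have h4 : InS 5 M ![φ y, φ z, β⁻¹] := by
      refine line hF hβ hr hb (a := φ ⟨p, q⟩) (inv_ne_zero hβ0) ?_ ?_ ?_
      · rw [hnm, h2, map_neg, map_one]
      · rw [← map_mul, ← map_sub, hnm, h3, map_neg, map_one, hβi]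
      · rw [hβi, ← h0]; ring
    have h5 := hr _ _ _ h4
    rwa [mul_inv_cancel₀ hβ0] at h5
  · have h4 : InS 5 M ![φ z, β⁻¹, β⁻¹ * φ y] := by
      refine line hF hβ hr hb (a := β⁻¹ * φ ⟨p, q⟩) (mul_ne_zero (inv_ne_zero hβ0) hy) ?_ ?_ ?_
      · rw [mul_pow, mul_mul_mul_comm, hβi, hnm, h2, map_neg, map_one, one_mul]
      · have e : β⁻¹ - β⁻¹ * φ ⟨p, q⟩ * φ z = β⁻¹ * φ (1 - ⟨p, q⟩ * z) := by
          rw [map_sub, map_mul, map_one]; ring
        rw [e, mul_pow, mul_mul_mul_comm, hβi, mul_pow, mul_mul_mul_comm, hβi, hnm, h3, map_neg, one_mul, one_mul, hnm]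
      · rw [mul_pow β⁻¹, mul_mul_mul_comm β⁻¹, hβi, ← h0]; ring
    have h5 := hr _ _ _ (hr _ _ _ h4)
    rwa [← mul_assoc, mul_inv_cancel₀ hβ0, one_mul] at h5

/-- all isotropic vectors. -/
theorem all_iso {ζ : F} (h : ζ * ζ + ζ + 1 = 0) {φ : K →+* F}
    (hφ : ∀ x : K, φ x = (x.re.cast : F) + (x.im.cast : F) * ζ) (v : Fin 3 → F) (hv : hermForm 3 F 5 v v = 0) :
    InS 5 M v := by
  obtain ⟨x, y, z, rfl⟩ : ∃ x y z, v = ![x, y, z] := ⟨v 0, v 1, v 2, by ext i; fin_cases i <;> rfl⟩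
  rw [Cfsg.Agent.LieClassical.HermBasic.herm_def, Fin.sum_univ_three] at hv
  change x * x ^ 5 + y * y ^ 5 + z * z ^ 5 = 0 at hv
  by_cases hx : x = 0
  · subst hx
    by_cases hy : y = 0
    · subst hy
      have hz : z = 0 := by
        have : z ^ 6 = 0 := by linear_combination hv
        exact pow_eq_zero_iff (by norm_num) |>.1 this
      subst hz
      obtain ⟨a, ha⟩ : ∃ a : F, a * a ^ 5 = -1 := by
        obtain ⟨a, -, ha⟩ := Cfsg.Agent.LieClassical.HermBasic.exists_norm_eq_ne hF (c := (-1 : F)) (by ring) (by simp)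
        exact ⟨a, ha⟩
      have h1 := InS.smul hF (hb a ha) 0
      rw [zero_smul] at h1
      convert h1 using 1
      ext i
      fin_cases i <;> rfl
    · have h1 : InS 5 M ![0, 1, z / y] := by
        have h2 : z * z ^ 5 = - (y * y ^ 5) := by linear_combination hv
        have h3 := hr 1 (z / y) 0 (hb _ (by
          rw [div_pow, div_mul_div_comm, h2, neg_div, div_self (mul_ne_zero hy (pow_ne_zero _ hy))]))
        rwa [mul_zero] at h3
      have h2 := InS.smul hF h1 y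
      have h3 : y • ![0, 1, z / y] = ![0, y, z] := by
        ext i
        fin_cases i
        · simp
        · simp
        · simp; field_simp
      rwa [h3] at h2
  · have h1 : InS 5 M ![1, y / x, z / x] := by
      apply line1 hF hβ hr hb h hφ
      field_simp
      linear_combination hv
    have h2 := InS.smul hF h1 x
    have h3 : x • ![1, y / x, z / x] = ![x, y, z] := by
      ext i
      fin_cases i
      · simp
      · simp; field_simp
      · simp; field_simp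
    rwa [h3] at h2

end Rot

section Final

theorem map_Dk {ζ : Fˣ} (h : (ζ : F) * ζ + ζ + 1 = 0) {φ : K →+* F}
    (hφ : ∀ x : K, φ x = (x.re.cast : F) + (x.im.cast : F) * ζ) :
    (Dm 3 ζ : Matrix (Fin 3) (Fin 3) F) = Dk.map φ := by
  have h5 : (5 : F) = 0 := by exact_mod_cast CharP.cast_eq_zero F 5
  have h4 : (ZMod.cast (4 : ZMod 5) : F) = 4 := by
    have := map_ofNat (ZMod.castHom (dvd_refl 5) F) 4
    exact this
  ext i j
  fin_cases i <;> fin_cases j <;> simp [Dm, Dk, hφ, Matrix.map_apply, h4]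
  linear_combination h - h5 * (1 + ζ)

theorem map_Fk {ζ β : Fˣ} (h : (ζ : F) * ζ + ζ + 1 = 0) {φ : K →+* F}
    (hφ : ∀ x : K, φ x = (x.re.cast : F) + (x.im.cast : F) * ζ) {b : K} (hβ : φ b = β) (i : Fin 3) :
    ((Dm 3 ζ ^ (i : ℕ) * Bm 3 β : GL (Fin 3) F) : Matrix (Fin 3) (Fin 3) F) = (Fk i b).map φ := by
  have hB : (Bm 3 β : Matrix (Fin 3) (Fin 3) F) = (Bk b).map φ := by
    ext i j
    fin_cases i <;> fin_cases j <;> simp [Bm, Bk, hφ, Matrix.map_apply]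
    rw [← hβ, hφ]
  rw [Units.val_mul, Units.val_pow_eq_pow_val, map_Dk h hφ, hB, Fk, Matrix.map_mul]
  congr 1
  exact (map_pow φ.mapMatrix Dk _).symm

theorem not_scalar_Dm {ζ : Fˣ} (hζ1 : ζ ≠ 1) : Dm 3 ζ ∉ scalars (Fin 3) F := by
  rw [mem_scalars_iff]
  rintro ⟨c, hc⟩
  have h1 := congrFun (congrFun hc 0) 0
  have h2 := congrFun (congrFun hc 1) 1
  simp [Dm] at h1 h2
  apply hζ1
  ext
  rw [Units.val_one, h2, ← h1]

theorem not_scalar_Fk {g : GL (Fin 3) F} {φ : K →+* F} {b : K} {i : Fin 3}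
    (hg : (g : Matrix (Fin 3) (Fin 3) F) = (Fk i b).map φ) : g ∉ scalars (Fin 3) F := by
  rw [mem_scalars_iff]
  rintro ⟨c, hc⟩
  rw [hg] at hc
  have h1 := congrFun (congrFun hc 1) 0
  rw [Matrix.map_apply, fk_entry] at h1
  simp at h1
  have h2 : (⟨0, 1⟩ : K) * ⟨4, 4⟩ = 1 := by decide
  have h3 := congrArg φ h2
  rw [map_mul, h1.1, zero_mul, map_one] at h3
  exact zero_ne_one h3

theorem Fk_mem {ζ β : Fˣ} (i : Fin 3) : Dm 3 ζ ^ (i : ℕ) * Bm 3 β ∈ Hs 3 ζ β :=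
  mul_mem (pow_mem (Dm_mem ζ β) _) (Bm_mem ζ β)

/-- the base: centres `(1, a, 0)`. -/
theorem base (hF : Fintype.card F = 5 ^ 2) {ζ β : Fˣ} (h : (ζ : F) * ζ + ζ + 1 = 0) (hζ1 : ζ ≠ 1) {φ : K →+* F}
    (hφ : ∀ x : K, φ x = (x.re.cast : F) + (x.im.cast : F) * ζ) {b : K} (hβ : φ b = β)
    (hb : b = ⟨1, 0⟩ ∨ b = ⟨4, 0⟩ ∨ b = ⟨0, 1⟩ ∨ b = ⟨0, 4⟩ ∨ b = ⟨4, 4⟩ ∨ b = ⟨1, 1⟩) {a : F} (ha : a * a ^ 5 = -1) :
    InS 5 (Mc (Cfsg.GU 3 F 5 ⊓ Cfsg.Geo.specialLinear (Fin 3) F) (Hs 3 ζ β)) ![1, a, 0] := by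
  set M := Mc (Cfsg.GU 3 F 5 ⊓ Cfsg.Geo.specialLinear (Fin 3) F) (Hs 3 ζ β) with hM
  have hMG : M ≤ Cfsg.GU 3 F 5 := (Mc_le _ _).trans inf_le_left
  have hnm : ∀ x : K, φ x * (φ x) ^ 5 = (ZMod.castHom (dvd_refl 5) F) (nm x) := by
    intro x
    rw [← phi_star h hφ, ← map_mul, mul_star, hφ]
    simp
  obtain ⟨C₁, m, C₂, i, j, a₀, c, u1, um, u2, e1, em, e2, hw, hna, hc, hc0⟩ := exists_wd hb
  obtain ⟨g1, hg1, v1⟩ := key hF h hφ u1 e1 (map_Fk h hφ hβ i) (Fk_mem i)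
    (not_scalar_Fk (map_Fk h hφ hβ i))
  obtain ⟨gm, hgm, vm⟩ := key hF h hφ um em (map_Dk h hφ) (Dm_mem ζ β)
    (not_scalar_Dm hζ1)
  obtain ⟨g2, hg2, v2⟩ := key hF h hφ u2 e2 (map_Fk h hφ hβ j) (Fk_mem j)
    (not_scalar_Fk (map_Fk h hφ hβ j))
  -- the transvection
  set τ : GL (Fin 3) F := (g1 * gm * g2) * (g1 * gm * g2) with hτ
  have hτM : τ ∈ M := mul_mem (mul_mem (mul_mem hg1 hgm) hg2) (mul_mem (mul_mem hg1 hgm) hg2)
  have hτv : (τ : Matrix (Fin 3) (Fin 3) F) = (Tk a₀ c).map φ := by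
    rw [hτ, ← hw]
    simp only [Units.val_mul, v1, vm, v2, Matrix.map_mul]
  have hτx : ∀ x : Fin 3 → F, (τ : Matrix (Fin 3) (Fin 3) F) *ᵥ x =
      x + (φ c * hermForm 3 F 5 x ![1, φ a₀, 0]) • ![1, φ a₀, 0] := by
    intro x
    rw [hτv, Cfsg.Agent.LieClassical.HermBasic.herm_def, Fin.sum_univ_three]
    ext k
    fin_cases k <;>
      simp [Tk, Matrix.mulVec, dotProduct, Fin.sum_univ_three, phi_star h hφ, Matrix.map_apply] <;> ring
  have hvv : hermForm 3 F 5 ![1, φ a₀, 0] ![1, φ a₀, 0] = 0 := by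
    rw [Cfsg.Agent.LieClassical.HermBasic.herm_def, Fin.sum_univ_three]
    have := hnm a₀
    rw [hna, map_neg, map_one] at this
    simp
    linear_combination this
  have hτn : ∀ (n : ℕ) (x : Fin 3 → F), ((τ ^ n : GL (Fin 3) F) : Matrix (Fin 3) (Fin 3) F) *ᵥ x =
      x + ((n : F) * (φ c * hermForm 3 F 5 x ![1, φ a₀, 0])) • ![1, φ a₀, 0] := by
    intro n x
    induction n with
    | zero => simp
    | succ n ih =>
      rw [pow_succ', mul_mulVec, ih, hτx, Cfsg.Agent.LieClassical.HermBasic.herm_add_left,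
        Cfsg.Agent.LieClassical.HermBasic.herm_smul_left, hvv, mul_zero, add_zero, add_assoc, ← add_smul]
      congr 2
      push_cast
      ring
  have hbase : InS 5 M ![1, φ a₀, 0] := by
    refine ⟨hvv, ?_⟩
    intro d hd g hg
    obtain ⟨d, rfl⟩ := phi_surjective hF φ d
    rw [← phi_star h hφ, ← map_add] at hd
    obtain ⟨n, rfl⟩ := exists_mul c d hc0 hc (phi_injective φ (by rw [hd, map_zero]))
    have h1 : g = τ ^ (n : ℕ) := by
      apply gl_ext
      intro x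
      rw [hg, hτn, nsmul_eq_mul, map_mul, map_natCast, mul_assoc]
    rw [h1]
    exact pow_mem hτM _
  obtain ⟨a, rfl⟩ := phi_surjective hF φ a
  have hna' : nm a = -1 := by
    have : Fact (Nat.Prime 5) := ⟨by norm_num⟩
    apply (ZMod.castHom (dvd_refl 5) F).injective
    rw [← hnm, ha, map_neg, map_one]
  obtain ⟨ht1, ht2⟩ := exists_t a a₀ hna' hna
  obtain ⟨ut, et⟩ := tt_uni _ ht1
  obtain ⟨g, hg, hv⟩ := key hF h hφ ut et (map_Dk h hφ) (Dm_mem ζ β)
    (not_scalar_Dm hζ1)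
  have h1 := InS.map hg (hMG hg) hbase
  have h2 : (g : Matrix (Fin 3) (Fin 3) F) *ᵥ ![1, φ a₀, 0] = ![1, φ a, 0] := by
    rw [hv]
    ext k
    fin_cases k
    · simp [Tt, Matrix.mulVec, dotProduct, Fin.sum_univ_three, Matrix.map_apply, hφ]
    · have h3 : φ (-(a * star a₀)) * φ a₀ = φ a := by rw [← map_mul, ht2]
      have h4 : φ (⟨0, 0⟩ : K) = 0 := by rw [hφ]; simp
      simp only [Tt, Matrix.mulVec, dotProduct, Fin.sum_univ_three, Matrix.map_apply]
      rw [map_neg, map_mul] at h3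
      simp [h4]
      linear_combination h3
    · simp [Tt, Matrix.mulVec, dotProduct, Fin.sum_univ_three, Matrix.map_apply, hφ]
  rwa [h2] at h1

end Final

/-- **SU₃(5)**: generated by the centralisers of the Heisenberg group. -/
theorem su35 {F : Type*} [Field F] [Fintype F] (hF : Fintype.card F = 5 ^ 2) (ζ β : Fˣ) (hζ : ζ ^ 3 = 1)
    (hζ1 : ζ ≠ 1) (hβ : β ^ 6 = 1) :
    Mc (Cfsg.GU 3 F 5 ⊓ Cfsg.Geo.specialLinear (Fin 3) F) (Hs 3 ζ β) =
      Cfsg.GU 3 F 5 ⊓ Cfsg.Geo.specialLinear (Fin 3) F := by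
  have h5 : Fact (Nat.Prime 5) := ⟨by norm_num⟩
  have : CharP F 5 := charP_of_card_eq_prime_pow hF
  have h : (ζ : F) * ζ + ζ + 1 = 0 := by
    apply cube
    · rw [← Units.val_pow_eq_pow_val, hζ, Units.val_one]
    · exact fun e => hζ1 (Units.ext e)
  obtain ⟨φ, hφ⟩ := exists_phi h
  have hnm : ∀ x : K, φ x * (φ x) ^ 5 = (ZMod.castHom (dvd_refl 5) F) (nm x) := by
    intro x
    rw [← phi_star h hφ, ← map_mul, mul_star, hφ]
    simp
  have hβ' : (β : F) ^ 6 = 1 := by rw [← Units.val_pow_eq_pow_val, hβ, Units.val_one]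
  have hββ : (β : F) * (β : F) ^ 5 = 1 := by rw [← hβ']; ring
  obtain ⟨b, hβb⟩ := phi_surjective hF φ (β : F)
  have hb : b = ⟨1, 0⟩ ∨ b = ⟨4, 0⟩ ∨ b = ⟨0, 1⟩ ∨ b = ⟨0, 4⟩ ∨ b = ⟨4, 4⟩ ∨ b = ⟨1, 1⟩ := by
    apply six
    apply phi_injective φ
    rw [map_pow, hβb, hβ', map_one]
  have hnb : nm b = 1 := by
    apply (ZMod.castHom (dvd_refl 5) F).injective
    rw [← hnm, hβb, hββ, map_one]
  set M := Mc (Cfsg.GU 3 F 5 ⊓ Cfsg.Geo.specialLinear (Fin 3) F) (Hs 3 ζ β) with hM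
  have hMG : M ≤ Cfsg.GU 3 F 5 := (Mc_le _ _).trans inf_le_left
  have hBm : (Bm 3 β : Matrix (Fin 3) (Fin 3) F) = (Bk b).map φ := by
    have := map_Fk h hφ hβb 0
    simpa [Fk] using this
  have hB : Bm 3 β ∈ GU 3 F 5 := by
    rw [Cfsg.Agent.ClassicalGeometry.HermParabolic.mem_GU_iff_matrix hF, hBm]
    have h1 : ((Bk b).map φ).map (conj hF) = ((Bk b).map star).map φ := by
      ext i j
      simp only [Matrix.map_apply]
      rw [conj_apply, ← phi_star h hφ]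
    rw [h1, ← Matrix.transpose_map, ← Matrix.map_mul, bk_uni b hnb, Matrix.map_one φ (map_zero φ) (map_one φ)]
  have hconj : ∀ t ∈ M, Bm 3 β * t * (Bm 3 β)⁻¹ ∈ M := fun t ht => by
    refine conj_Mc (fun g hg => ?_) (fun g hg => ?_) ht
    · refine Subgroup.mem_inf.2 ⟨mul_mem (mul_mem hB hg.1) (inv_mem hB), ?_⟩
      exact (MonoidHom.normal_ker _).conj_mem _ hg.2 _
    · exact mul_mem (mul_mem (Bm_mem ζ β) hg) (inv_mem (Bm_mem ζ β))
  have hr : ∀ x y z : F, InS 5 M ![x, y, z] → InS 5 M ![β * z, x, y] := by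
    intro x y z hI
    have h1 := inS_conj hB hconj hI
    have h2 : (Bm 3 β : Matrix (Fin 3) (Fin 3) F) *ᵥ ![x, y, z] = ![β * z, x, y] := by
      rw [hBm]
      ext k
      fin_cases k <;> simp [Bk, Matrix.mulVec, dotProduct, Fin.sum_univ_three, Matrix.map_apply, hφ]
      left
      rw [← hβb, hφ]
    rwa [h2] at h1
  refine le_antisymm (Mc_le _ _) (su_le hF (by norm_num) (by norm_num) fun v hv => ?_)
  exact all_iso hF hββ hr (fun a ha => base hF h hζ1 hφ hβb hb ha) h hφ v hv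

/-- The same for centralisers modulo scalars. -/
theorem su35g {F : Type*} [Field F] [Fintype F] (hF : Fintype.card F = 5 ^ 2) (ζ β : Fˣ) (hζ : ζ ^ 3 = 1)
    (hζ1 : ζ ≠ 1) (hβ : β ^ 6 = 1) :
    Mg (Cfsg.GU 3 F 5 ⊓ Cfsg.Geo.specialLinear (Fin 3) F) (Hs 3 ζ β) =
      Cfsg.GU 3 F 5 ⊓ Cfsg.Geo.specialLinear (Fin 3) F :=
  le_antisymm (Mg_le _ _) ((su35 hF ζ β hζ hζ1 hβ).ge.trans (Mc_le_Mg _ _))

end Cfsg.Agent.H973.KerSU
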