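import Mathlib

/-!
# A computable model of the field with 25 elements

`K = F₅[ω]`, `ω² = -1 - ω`; `φ : K →+* F` with `φ ω = ζ` for a primitive cube root of unity `ζ` of a field `F` of
characteristic 5; `φ (star x) = (φ x) ^ 5`; `φ` is bijective if `|F| = 25`.
-/

set_option autoImplicit false
set_option linter.unusedSectionVars false

namespace Cfsg.Agent.H973.KerSU

/-- `F₅[ω]`, `ω² = -1 - ω`. -/
abbrev K := QuadraticAlgebra (ZMod 5) (-1) (-1)

/-- the norm form on `K`. -/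
def nm (x : K) : ZMod 5 := x.re * x.re - x.re * x.im + x.im * x.im

theorem mul_star (x : K) : x * star x = ⟨nm x, 0⟩ := by
  obtain ⟨a, b⟩ := x
  revert a b
  decide

theorem nm_eq_zero (a b : ZMod 5) (h : nm ⟨a, b⟩ = 0) : (⟨a, b⟩ : K) = 0 := by
  revert a b
  decide

section

variable {F : Type*} [Field F]

theorem cube {ζ : F} (hζ : ζ ^ 3 = 1) (hζ1 : ζ ≠ 1) : ζ * ζ + ζ + 1 = 0 := by
  have h : (ζ - 1) * (ζ * ζ + ζ + 1) = 0 := by linear_combination hζ
  rcases mul_eq_zero.1 h with h | h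
  · exact absurd (sub_eq_zero.1 h) hζ1
  · exact h

variable [CharP F 5]

theorem exists_phi {ζ : F} (h : ζ * ζ + ζ + 1 = 0) :
    ∃ φ : K →+* F, ∀ x : K, φ x = (x.re.cast : F) + (x.im.cast : F) * ζ := by
  let _ := ZMod.algebra F 5
  refine ⟨((QuadraticAlgebra.lift (R := ZMod 5) (a := -1) (b := -1) (A := F)
    ⟨ζ, by rw [neg_smul, neg_smul, one_smul, one_smul]; linear_combination h⟩ : K →ₐ[ZMod 5] F) : K →+* F), ?_⟩
  intro x
  rw [RingHom.coe_coe, QuadraticAlgebra.lift_apply_apply, Algebra.smul_def, Algebra.smul_def, mul_one]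
  rfl

theorem cast_pow (x : ZMod 5) : (x.cast : F) ^ 5 = (x.cast : F) := by
  have : Fact (Nat.Prime 5) := ⟨by norm_num⟩
  have h : (ZMod.castHom (dvd_refl 5) F) (x ^ 5) = (ZMod.castHom (dvd_refl 5) F) x := by rw [ZMod.pow_card]
  rw [map_pow] at h
  exact h

theorem phi_star {ζ : F} (h : ζ * ζ + ζ + 1 = 0) {φ : K →+* F}
    (hφ : ∀ x : K, φ x = (x.re.cast : F) + (x.im.cast : F) * ζ) (x : K) : φ (star x) = (φ x) ^ 5 := by
  have : Fact (Nat.Prime 5) := ⟨by norm_num⟩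
  have h1 : star x = ⟨x.re - x.im, -x.im⟩ := by
    ext
    · rw [QuadraticAlgebra.re_star, neg_one_mul, ← sub_eq_add_neg]
    · rw [QuadraticAlgebra.im_star]
  have h2 : ((x.re - x.im : ZMod 5).cast : F) = (x.re.cast : F) - (x.im.cast : F) :=
    map_sub (ZMod.castHom (dvd_refl 5) F) _ _
  have h3 : ((-x.im : ZMod 5).cast : F) = - (x.im.cast : F) := map_neg (ZMod.castHom (dvd_refl 5) F) _
  rw [hφ x, add_pow_char, mul_pow, cast_pow, cast_pow, hφ, h1, h2, h3]
  linear_combination (- (x.im.cast : F)) * (ζ ^ 3 - ζ ^ 2 + 1) * h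

theorem phi_injective (φ : K →+* F) : Function.Injective φ := by
  rw [injective_iff_map_eq_zero]
  rintro ⟨a, b⟩ hx
  apply nm_eq_zero
  have h1 : φ (⟨nm ⟨a, b⟩, 0⟩ : K) = 0 := by rw [← mul_star, map_mul, hx, zero_mul]
  by_contra h2
  have : Fact (Nat.Prime 5) := ⟨by norm_num⟩
  have h3 : (⟨nm ⟨a, b⟩, 0⟩ : K) * (⟨(nm ⟨a, b⟩)⁻¹, 0⟩ : K) = 1 := by
    rw [QuadraticAlgebra.mk_mul_mk]
    ext
    · simp only [mul_inv_cancel₀ h2, mul_zero, add_zero]; rfl
    · simp only [mul_zero, zero_mul, add_zero]; rfl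
  have h4 := congrArg φ h3
  rw [map_mul, h1, zero_mul, map_one] at h4
  exact zero_ne_one h4

theorem phi_surjective [Fintype F] (hF : Fintype.card F = 5 ^ 2) (φ : K →+* F) : Function.Surjective φ := by
  haveI : Fintype K := Fintype.ofEquiv _ (QuadraticAlgebra.equivProd (-1 : ZMod 5) (-1)).symm
  refine ((Fintype.bijective_iff_injective_and_card φ).2 ⟨phi_injective φ, ?_⟩).2
  rw [hF, Fintype.card_congr (QuadraticAlgebra.equivProd (-1 : ZMod 5) (-1)), Fintype.card_prod, ZMod.card]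
  norm_num

end

end Cfsg.Agent.H973.KerSU
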