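import Cfsg.Agent.H973.KerSU.Model

/-!
# Words in the model

`Fk i b` = the model of `Dm 3 ζ ^ i * Bm 3 β` (`φ b = β`); for each sixth root of unity `b` a word
`(C₁ m C₂)²`, with `m` diagonal and `C_j` centralising some `Fk i b`, which is a transvection with centre `(1, a, 0)`.
-/

set_option autoImplicit false
set_option maxRecDepth 100000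

open scoped Matrix

namespace Cfsg.Agent.H973.KerSU

/-- unitary of determinant 1. -/
def Uni (A : Matrix (Fin 3) (Fin 3) K) : Prop :=
  Aᵀ * A.map star = 1 ∧ A 0 0 * A 1 1 * A 2 2 - A 0 0 * A 1 2 * A 2 1 - A 0 1 * A 1 0 * A 2 2 +
    A 0 1 * A 1 2 * A 2 0 + A 0 2 * A 1 0 * A 2 1 - A 0 2 * A 1 1 * A 2 0 = 1

instance (A : Matrix (Fin 3) (Fin 3) K) : Decidable (Uni A) := by unfold Uni; infer_instance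

theorem Uni.det {A : Matrix (Fin 3) (Fin 3) K} (h : Uni A) : A.det = 1 := by
  rw [Matrix.det_fin_three]; exact h.2

/-- `diag(1, ω, ω²)`. -/
def Dk : Matrix (Fin 3) (Fin 3) K := !![⟨1, 0⟩, ⟨0, 0⟩, ⟨0, 0⟩; ⟨0, 0⟩, ⟨0, 1⟩, ⟨0, 0⟩; ⟨0, 0⟩, ⟨0, 0⟩, ⟨4, 4⟩]

/-- the shift. -/
def Bk (b : K) : Matrix (Fin 3) (Fin 3) K := !![⟨0, 0⟩, ⟨0, 0⟩, b; ⟨1, 0⟩, ⟨0, 0⟩, ⟨0, 0⟩; ⟨0, 0⟩, ⟨1, 0⟩, ⟨0, 0⟩]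

/-- `D^i B`. -/
def Fk (i : Fin 3) (b : K) : Matrix (Fin 3) (Fin 3) K := Dk ^ (i : ℕ) * Bk b

/-- the transvection with centre `(1, a, 0)`. -/
def Tk (a c : K) : Matrix (Fin 3) (Fin 3) K :=
  !![1 + c, c * star a, 0; c * a, 1 + c * (a * star a), 0; 0, 0, 1]

/-- the word. -/
def Wd (b : K) (C₁ m C₂ : Matrix (Fin 3) (Fin 3) K) (i j : Fin 3) (a c : K) : Prop :=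
  Uni C₁ ∧ Uni m ∧ Uni C₂ ∧ C₁ * Fk i b = Fk i b * C₁ ∧ m * Dk = Dk * m ∧ C₂ * Fk j b = Fk j b * C₂ ∧
    (C₁ * m * C₂) * (C₁ * m * C₂) = Tk a c ∧ nm a = -1 ∧ c + star c = 0 ∧ c ≠ 0

instance (b : K) (C₁ m C₂ : Matrix (Fin 3) (Fin 3) K) (i j : Fin 3) (a c : K) : Decidable (Wd b C₁ m C₂ i j a c) := by
  unfold Wd; infer_instance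

theorem wd0 : Wd ⟨1, 0⟩ !![⟨4, 0⟩, ⟨2, 2⟩, ⟨4, 0⟩; ⟨0, 4⟩, ⟨4, 0⟩, ⟨0, 3⟩; ⟨3, 0⟩, ⟨1, 1⟩, ⟨4, 0⟩]
    !![⟨4, 0⟩, ⟨0, 0⟩, ⟨0, 0⟩; ⟨0, 0⟩, ⟨4, 0⟩, ⟨0, 0⟩; ⟨0, 0⟩, ⟨0, 0⟩, ⟨1, 0⟩]
    !![⟨4, 0⟩, ⟨1, 1⟩, ⟨0, 3⟩; ⟨0, 3⟩, ⟨4, 0⟩, ⟨1, 1⟩; ⟨1, 1⟩, ⟨0, 3⟩, ⟨4, 0⟩] 1 0 ⟨0, 2⟩ ⟨1, 2⟩ := by
  decide +kernel

theorem wd1 : Wd ⟨4, 0⟩ !![⟨0, 4⟩, ⟨1, 0⟩, ⟨0, 3⟩; ⟨3, 3⟩, ⟨0, 4⟩, ⟨4, 4⟩; ⟨0, 4⟩, ⟨2, 0⟩, ⟨0, 4⟩]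
    !![⟨1, 1⟩, ⟨0, 0⟩, ⟨0, 0⟩; ⟨0, 0⟩, ⟨1, 1⟩, ⟨0, 0⟩; ⟨0, 0⟩, ⟨0, 0⟩, ⟨4, 4⟩]
    !![⟨4, 0⟩, ⟨3, 3⟩, ⟨0, 4⟩; ⟨0, 1⟩, ⟨4, 0⟩, ⟨3, 3⟩; ⟨2, 2⟩, ⟨0, 1⟩, ⟨4, 0⟩] 1 0 ⟨0, 2⟩ ⟨4, 3⟩ := by
  decide +kernel

theorem wd2 : Wd ⟨0, 1⟩ !![⟨1, 4⟩, ⟨2, 4⟩, ⟨1, 1⟩; ⟨4, 0⟩, ⟨1, 4⟩, ⟨1, 3⟩; ⟨1, 3⟩, ⟨1, 1⟩, ⟨1, 4⟩]
    !![⟨0, 4⟩, ⟨0, 0⟩, ⟨0, 0⟩; ⟨0, 0⟩, ⟨4, 4⟩, ⟨0, 0⟩; ⟨0, 0⟩, ⟨0, 0⟩, ⟨4, 0⟩]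
    !![⟨4, 3⟩, ⟨1, 1⟩, ⟨3, 1⟩; ⟨3, 2⟩, ⟨4, 3⟩, ⟨1, 1⟩; ⟨0, 4⟩, ⟨3, 2⟩, ⟨4, 3⟩] 2 0 ⟨2, 2⟩ ⟨3, 1⟩ := by
  decide +kernel

theorem wd3 : Wd ⟨0, 4⟩ !![⟨1, 4⟩, ⟨3, 2⟩, ⟨0, 4⟩; ⟨0, 1⟩, ⟨1, 4⟩, ⟨4, 2⟩; ⟨2, 3⟩, ⟨4, 4⟩, ⟨1, 4⟩]
    !![⟨0, 4⟩, ⟨0, 0⟩, ⟨0, 0⟩; ⟨0, 0⟩, ⟨1, 0⟩, ⟨0, 0⟩; ⟨0, 0⟩, ⟨0, 0⟩, ⟨1, 1⟩]
    !![⟨4, 3⟩, ⟨0, 1⟩, ⟨4, 2⟩; ⟨2, 4⟩, ⟨4, 3⟩, ⟨0, 1⟩; ⟨4, 0⟩, ⟨2, 4⟩, ⟨4, 3⟩] 1 0 ⟨2, 0⟩ ⟨2, 4⟩ := by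
  decide +kernel

theorem wd4 : Wd ⟨4, 4⟩ !![⟨1, 4⟩, ⟨0, 4⟩, ⟨1, 3⟩; ⟨2, 3⟩, ⟨1, 4⟩, ⟨0, 4⟩; ⟨1, 1⟩, ⟨2, 3⟩, ⟨1, 4⟩]
    !![⟨4, 4⟩, ⟨0, 0⟩, ⟨0, 0⟩; ⟨0, 0⟩, ⟨4, 0⟩, ⟨0, 0⟩; ⟨0, 0⟩, ⟨0, 0⟩, ⟨0, 4⟩]
    !![⟨2, 1⟩, ⟨4, 2⟩, ⟨1, 1⟩; ⟨1, 1⟩, ⟨2, 1⟩, ⟨3, 2⟩; ⟨4, 2⟩, ⟨0, 4⟩, ⟨2, 1⟩] 0 2 ⟨2, 0⟩ ⟨3, 1⟩ := by
  decide +kernel

theorem wd5 : Wd ⟨1, 1⟩ !![⟨1, 4⟩, ⟨0, 1⟩, ⟨1, 3⟩; ⟨3, 2⟩, ⟨1, 4⟩, ⟨0, 1⟩; ⟨1, 1⟩, ⟨3, 2⟩, ⟨1, 4⟩]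
    !![⟨4, 4⟩, ⟨0, 0⟩, ⟨0, 0⟩; ⟨0, 0⟩, ⟨4, 0⟩, ⟨0, 0⟩; ⟨0, 0⟩, ⟨0, 0⟩, ⟨0, 4⟩]
    !![⟨2, 1⟩, ⟨1, 3⟩, ⟨1, 1⟩; ⟨4, 4⟩, ⟨2, 1⟩, ⟨2, 3⟩; ⟨4, 2⟩, ⟨0, 1⟩, ⟨2, 1⟩] 0 2 ⟨3, 0⟩ ⟨3, 1⟩ := by
  decide +kernel

theorem exists_wd {b : K} (hb : b = ⟨1, 0⟩ ∨ b = ⟨4, 0⟩ ∨ b = ⟨0, 1⟩ ∨ b = ⟨0, 4⟩ ∨ b = ⟨4, 4⟩ ∨ b = ⟨1, 1⟩) :
    ∃ C₁ m C₂ i j a c, Wd b C₁ m C₂ i j a c := by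
  rcases hb with rfl | rfl | rfl | rfl | rfl | rfl
  · exact ⟨_, _, _, _, _, _, _, wd0⟩
  · exact ⟨_, _, _, _, _, _, _, wd1⟩
  · exact ⟨_, _, _, _, _, _, _, wd2⟩
  · exact ⟨_, _, _, _, _, _, _, wd3⟩
  · exact ⟨_, _, _, _, _, _, _, wd4⟩
  · exact ⟨_, _, _, _, _, _, _, wd5⟩

/-- `diag(1, t, t̄)`. -/
def Tt (t : K) : Matrix (Fin 3) (Fin 3) K := !![⟨1, 0⟩, ⟨0, 0⟩, ⟨0, 0⟩; ⟨0, 0⟩, t, ⟨0, 0⟩; ⟨0, 0⟩, ⟨0, 0⟩, star t]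

theorem tt_uni (t : K) (ht : nm t = 1) : Uni (Tt t) ∧ Tt t * Dk = Dk * Tt t := by
  obtain ⟨a, b⟩ := t
  revert a b
  decide +kernel

theorem pk_uni : Uni (Bk ⟨1, 0⟩) ∧ Bk ⟨1, 0⟩ * Dk = (⟨4, 4⟩ : K) • (Dk * Bk ⟨1, 0⟩) := by
  decide +kernel

theorem fk_entry (i : Fin 3) (b : K) : Fk i b 1 0 = ⟨0, 1⟩ ^ (i : ℕ) := by
  obtain ⟨x, y⟩ := b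
  revert i x y
  decide +kernel

theorem exists_mul (c d : K) (hc : c ≠ 0) (h1 : c + star c = 0) (h2 : d + star d = 0) : ∃ n : Fin 5, d = (n : ℕ) • c := by
  obtain ⟨c1, c2⟩ := c
  obtain ⟨d1, d2⟩ := d
  revert c1 c2 d1 d2
  decide +kernel

theorem exists_t (a a₀ : K) (h1 : nm a = -1) (h2 : nm a₀ = -1) : nm (-(a * star a₀)) = 1 ∧ -(a * star a₀) * a₀ = a := by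
  obtain ⟨c1, c2⟩ := a
  obtain ⟨d1, d2⟩ := a₀
  revert c1 c2 d1 d2
  decide +kernel

theorem six (b : K) (h : b ^ 6 = 1) :
    b = ⟨1, 0⟩ ∨ b = ⟨4, 0⟩ ∨ b = ⟨0, 1⟩ ∨ b = ⟨0, 4⟩ ∨ b = ⟨4, 4⟩ ∨ b = ⟨1, 1⟩ := by
  have h1 : b * b * b * b * b * b = 1 := by rw [← h]; ring
  clear h
  obtain ⟨c1, c2⟩ := b
  revert c1 c2
  decide +kernel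

theorem bk_uni (b : K) (h : nm b = 1) : (Bk b)ᵀ * (Bk b).map star = 1 := by
  obtain ⟨c1, c2⟩ := b
  revert c1 c2
  decide +kernel

/-- isotropic vectors `(1, y, z)` on hyperbolic lines. -/
theorem exists_line (y z : K) (hy : y ≠ 0) (hz : z ≠ 0) (h : 1 + nm y + nm z = 0) :
    (∃ p q : ZMod 5, nm ⟨p, q⟩ = -1 ∧ nm (y - ⟨p, q⟩) = - nm z) ∨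
      (∃ p q : ZMod 5, nm ⟨p, q⟩ = -1 ∧ nm (z - ⟨p, q⟩ * y) = -1) ∨
      (∃ p q : ZMod 5, nm ⟨p, q⟩ = -1 ∧ nm (1 - ⟨p, q⟩ * z) = - nm y) := by
  obtain ⟨y1, y2⟩ := y
  obtain ⟨z1, z2⟩ := z
  revert y1 y2 z1 z2
  decide +kernel

end Cfsg.Agent.H973.KerSU
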